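import Groth.Agent.EGA43.Chevalley.Tfae
import Groth.Agent.EGA43.DvrCrit.OpenFlat
import Groth.Agent.EGA43.FibDepth.GeomRing
import Groth.Agent.CAlgH.CIScheme
import Groth.Agent.SmoothLib.FibreMap
import Groth.Agent.Unram17Lib.SmoothLocalRing
import Groth.Agent.Unram17Lib.RelDim
import Groth.Agent.AlgSpLib.OnePointFlat

/-!
# Smoothness = equidimensional (or universally open) with geometrically regular fibre (EGA IV 17.5)
-/

set_option autoImplicit false
set_option backward.isDefEq.respectTransparency false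
set_option linter.style.haveILetI false

universe u

open CategoryTheory CategoryTheory.Limits AlgebraicGeometry TopologicalSpace

namespace Groth.Agent.EGA43.SmoothEquidim

open Groth.Agent FlatMorWeight EGA43.Chevalley

/-- Formal smoothness of a local algebra essentially of finite type over a field. -/
theorem formallySmooth_iff_isGeometricallyRegular (k A : Type u) [Field k] [CommRing A] [IsLocalRing A]
    [Algebra k A] [Algebra.EssFiniteType k A] :
    Algebra.FormallySmooth k A ↔ CAlg.IsGeometricallyRegular k A := by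
  let S := Algebra.EssFiniteType.subalgebra k A
  let q : Ideal S := (IsLocalRing.maximalIdeal A).comap (algebraMap S A)
  haveI : IsLocalization.AtPrime A q := by
    have : q.primeCompl = Algebra.EssFiniteType.submonoid k A := by
      ext a
      show algebraMap S A a ∉ IsLocalRing.maximalIdeal A ↔ IsUnit (algebraMap S A a)
      exact IsLocalRing.notMem_maximalIdeal
    show IsLocalization q.primeCompl A
    rw [this]
    infer_instance
  let e : Localization.AtPrime q ≃ₐ[k] A :=
    (IsLocalization.algEquiv q.primeCompl (Localization.AtPrime q) A).restrictScalars k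
  have h := FibDepth.isSmoothAt_iff_isGeometricallyRegular k (S := S) q
  refine Iff.trans ⟨fun hA => ?_, fun hq => ?_⟩ (h.trans ⟨fun hq k' _ _ hk' => ?_, fun hA k' _ _ hk' => ?_⟩)
  · exact Algebra.FormallySmooth.of_equiv e.symm
  · haveI : Algebra.FormallySmooth k (Localization.AtPrime q) := hq
    exact Algebra.FormallySmooth.of_equiv e
  · haveI := hq k' hk'
    exact IsRegularRing.of_ringEquiv (Algebra.TensorProduct.congr (AlgEquiv.refl : k' ≃ₐ[k] k') e).toRingEquiv
  · haveI := hA k' hk'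
    exact IsRegularRing.of_ringEquiv (Algebra.TensorProduct.congr (AlgEquiv.refl : k' ≃ₐ[k] k') e).symm.toRingEquiv

variable {X Y : Scheme.{u}} (f : X ⟶ Y)

/-- The fibre is smooth at a point iff the fibre ring is geometrically regular. -/
theorem formallySmooth_fibre_iff [LocallyOfFiniteType f] (x : X) :
    letI φ := (f.stalkMap x).hom
    letI 𝔪 := IsLocalRing.maximalIdeal ↑(Y.presheaf.stalk (f.base x))
    letI : Algebra (IsLocalRing.ResidueField ↑(Y.presheaf.stalk (f.base x))) (↑(X.presheaf.stalk x) ⧸ 𝔪.map φ) :=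
      (Ideal.quotientMap (𝔪.map φ) φ Ideal.le_comap_map).toAlgebra
    (((f.fiberToSpecResidueField (f x)).stalkMap (f.asFiber x)).hom.FormallySmooth ↔
      CAlg.IsGeometricallyRegular (IsLocalRing.ResidueField ↑(Y.presheaf.stalk (f.base x)))
          (↑(X.presheaf.stalk x) ⧸ 𝔪.map φ)) := by
  suffices key : ∀ (s : Y) (z : f.fiber s) (a : X), f.fiberι s z = a →
      letI φ := (f.stalkMap a).hom
      letI 𝔪 := IsLocalRing.maximalIdeal ↑(Y.presheaf.stalk (f.base a))
      letI : Algebra (IsLocalRing.ResidueField ↑(Y.presheaf.stalk (f.base a))) (↑(X.presheaf.stalk a) ⧸ 𝔪.map φ) :=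
        (Ideal.quotientMap (𝔪.map φ) φ Ideal.le_comap_map).toAlgebra
      (((f.fiberToSpecResidueField s).stalkMap z).hom.FormallySmooth ↔
        CAlg.IsGeometricallyRegular (IsLocalRing.ResidueField ↑(Y.presheaf.stalk (f.base a)))
            (↑(X.presheaf.stalk a) ⧸ 𝔪.map φ)) from key (f x) (f.asFiber x) x (f.fiberι_asFiber x)
  rintro s z _ rfl
  let a := f.fiberι s z
  let φ := (f.stalkMap a).hom
  let 𝔪 := IsLocalRing.maximalIdeal ↑(Y.presheaf.stalk (f a))
  let q := Ideal.quotientMap (𝔪.map φ) φ Ideal.le_comap_map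
  letI : Algebra (IsLocalRing.ResidueField ↑(Y.presheaf.stalk (f a))) (↑(X.presheaf.stalk a) ⧸ 𝔪.map φ) := q.toAlgebra
  show _ ↔ CAlg.IsGeometricallyRegular (IsLocalRing.ResidueField ↑(Y.presheaf.stalk (f a))) _
  obtain ⟨hs, hker⟩ := Props12.stalkMap_fiberι f s z
  let g := f.fiberToSpecResidueField s
  let j := Y.fromSpecResidueField s
  have w : f.fiberι s ≫ f = g ≫ j := f.fiber_fac s
  -- the local ring of the residue field
  let ψ : Y.presheaf.stalk (f a) →+* (Spec (Y.residueField s)).presheaf.stalk (g z) :=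
    (Y.presheaf.stalkSpecializes (specializes_of_eq (show j (g z) = f a by
      rw [← Scheme.Hom.comp_apply, ← w, Scheme.Hom.comp_apply])) ≫ j.stalkMap (g z)).hom
  have hsq : (((f.fiberι s).stalkMap z).hom).comp φ = (g.stalkMap z).hom.comp ψ := by
    have := Scheme.Hom.stalkMap_congr_hom (f.fiberι s ≫ f) (g ≫ j) w z
    rw [Scheme.Hom.stalkMap_comp, Scheme.Hom.stalkMap_comp] at this
    exact congrArg CommRingCat.Hom.hom (this.trans (Category.assoc _ _ _).symm)
  have hψ : Function.Surjective ψ := by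
    intro b
    obtain ⟨c, rfl⟩ := j.stalkMap_surjective (g z) b
    haveI := FlatLocal.isIso_stalkSpecializes_of_eq (X := Y) (show j (g z) = f a by
      rw [← Scheme.Hom.comp_apply, ← w, Scheme.Hom.comp_apply])
    exact ⟨(inv (Y.presheaf.stalkSpecializes _)).hom c, congrArg (j.stalkMap (g z)).hom
      (ConcreteCategory.congr_hom (IsIso.inv_hom_id _) c)⟩
  haveI : (RingHom.ker ψ).IsPrime := by
    haveI : IsDomain ((Spec (Y.residueField s)).presheaf.stalk (g z)) := inferInstance
    exact RingHom.ker_isPrime _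
  have hψk : RingHom.ker ψ = 𝔪 := by
    have hloc : IsLocalHom ψ := by
      haveI := FlatLocal.isIso_stalkSpecializes_of_eq (X := Y) (show j (g z) = f a by
        rw [← Scheme.Hom.comp_apply, ← w, Scheme.Hom.comp_apply])
      exact CommRingCat.isLocalHom_comp _ _
    refine le_antisymm (IsLocalRing.le_maximalIdeal (Ideal.IsPrime.ne_top inferInstance)) fun y hy => ?_
    rw [RingHom.mem_ker]
    by_contra h0
    have hf : IsField ((Spec (Y.residueField s)).presheaf.stalk (g z)) := AlgSpLib.isField_stalk_of_maximal _ fun w _ => Subsingleton.elim (α := PrimeSpectrum (Y.residueField s)) _ _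
    exact hy (isUnit_of_map_unit ψ y (by letI := hf.toField; exact isUnit_iff_ne_zero.2 h0))
  let eL : (↑(Y.presheaf.stalk (f a)) ⧸ 𝔪) ≃+* (Spec (Y.residueField s)).presheaf.stalk (g z) :=
    (Ideal.quotEquivOfEq hψk.symm).trans (RingHom.quotientKerEquivOfSurjective hψ)
  let eR : (↑(X.presheaf.stalk a) ⧸ 𝔪.map φ) ≃+* (f.fiber s).presheaf.stalk z :=
    (Ideal.quotEquivOfEq hker.symm).trans (RingHom.quotientKerEquivOfSurjective hs)
  have hcomm : (g.stalkMap z).hom.comp (eL : _ →+* _) = (eR : _ →+* _).comp q := by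
    refine Ideal.Quotient.ringHom_ext (RingHom.ext fun y => ?_)
    exact (congrArg (fun r : _ →+* _ => r y) hsq).symm
  haveI : Algebra.EssFiniteType (IsLocalRing.ResidueField ↑(Y.presheaf.stalk (f a))) (↑(X.presheaf.stalk a) ⧸ 𝔪.map φ) := by
    letI := φ.toAlgebra
    haveI : Algebra.EssFiniteType (Y.presheaf.stalk (f a)) (X.presheaf.stalk a) := LocallyOfFiniteType.stalkMap f a
    haveI : IsScalarTower (Y.presheaf.stalk (f a)) (IsLocalRing.ResidueField ↑(Y.presheaf.stalk (f a)))
        (X.presheaf.stalk a ⧸ 𝔪.map φ) := IsScalarTower.of_algebraMap_eq fun _ => rfl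
    haveI : Algebra.EssFiniteType (Y.presheaf.stalk (f a)) (X.presheaf.stalk a ⧸ 𝔪.map φ) :=
      .comp _ (X.presheaf.stalk a) _
    exact .of_comp (Y.presheaf.stalk (f a)) _ _
  haveI : IsLocalRing (↑(X.presheaf.stalk a) ⧸ 𝔪.map φ) := eR.symm.isLocalRing
  rw [← formallySmooth_iff_isGeometricallyRegular, ← RingHom.formallySmooth_algebraMap, RingHom.algebraMap_toAlgebra]
  have h1 : q = ((eR.symm : _ →+* _).comp (g.stalkMap z).hom).comp (eL : _ →+* _) := by
    rw [RingHom.comp_assoc, hcomm, ← RingHom.comp_assoc]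
    ext y
    simp
  show _ ↔ q.FormallySmooth
  rw [h1]
  constructor
  · intro h
    exact RingHom.FormallySmooth.respectsIso.2 _ eL (RingHom.FormallySmooth.respectsIso.1 _ eR.symm h)
  · intro h
    have h2 := RingHom.FormallySmooth.respectsIso.1 _ eR (RingHom.FormallySmooth.respectsIso.2 _ eL.symm h)
    convert h2 using 1
    ext y
    simp [g]

/-- A point at which a scheme over a field is smooth is geometrically reduced. -/
theorem isGeomReducedAt_of_formallySmooth {k : Type u} [Field k] {W : Scheme.{u}} (p : W ⟶ Spec (CommRingCat.of k))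
    [LocallyOfFinitePresentation p] (z : W) (h : (p.stalkMap z).hom.FormallySmooth) :
    FBase.IsGeomReducedAt p z := by
  intro K _ _ x' hx'
  let i := Spec.map (CommRingCat.ofHom (algebraMap k K))
  haveI : LocallyOfFinitePresentation (pullback.snd p i) := MorphismProperty.pullback_snd _ _ ‹_›
  obtain ⟨U', hxU', hU'⟩ := SmoothLib.smooth_nhd_baseChange p i (IsPullback.of_hasPullback p i) x'
    (by rw [show pullback.fst p i x' = z from hx']; exact (SmoothLib.smooth_nhd_iff p z).2 h)
  have h2 := SmoothLib.formallySmooth_stalkMap_of_nhd (pullback.snd p i) (hU := hU') hxU'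
  refine (Unram17Lib.isReduced_stalk_iff (pullback.snd p i) x' h2).2 ?_
  infer_instance

variable [IsLocallyNoetherian Y] [LocallyOfFiniteType f]

theorem isUnivOpenAt_of_isEquidimAt {x : X} (h : EGA43.IsEquidimAt f x)
    (hgu : CAlg2.IsGeomUnibranch ↑(Y.presheaf.stalk (f x))) {a : X} (hax : a ⤳ x) (hfa : f a = f x)
    (hmax : ∀ w, w ⤳ a → f w = f a → w = a) : EGA43.IsUnivOpenAt f a := by
  obtain ⟨e, U, hxU, hc, hd⟩ := (isEquidimAt_iff f x).1 h
  obtain ⟨ξ, hξ, W, hW, hgen⟩ := exists_isMaximalPt_specializes a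
  have hξm := isMaximalPt_of_isGenericPoint hW hgen
  have haU : a ∈ U := hax.mem_open U.isOpen hxU
  have hξU : ξ ∈ U := hξ.mem_open U.isOpen haU
  refine isUnivOpenAt_of_trdegHom f hξ (hc ξ hξU hξm).1 (hfa.symm ▸ hgu) fun w _ hwa hwf => ?_
  rw [hmax w hwa hwf, hd a haU hmax, hd ξ hξU fun v hv _ => hξm v hv]

theorem smooth_nhd_of_univOpen (x : X) (hred : _root_.IsReduced ↑(Y.presheaf.stalk (f x)))
    (hopen : ∀ a, a ⤳ x → f a = f x → (∀ w, w ⤳ a → f w = f a → w = a) → EGA43.IsUnivOpenAt f a)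
    (hs : ((f.fiberToSpecResidueField (f x)).stalkMap (f.asFiber x)).hom.FormallySmooth) :
    ∃ U : X.Opens, x ∈ U ∧ Smooth (U.ι ≫ f) := by
  haveI : LocallyOfFinitePresentation f :=
    LocallyOfFinitePresentation.iff_locallyOfFiniteType.mpr inferInstance
  haveI : LocallyOfFinitePresentation (f.fiberToSpecResidueField (f x)) :=
    MorphismProperty.pullback_snd _ _ ‹_›
  have hflat : (f.stalkMap x).hom.Flat := by
    refine DvrCrit.flat_stalkMap_of_univOpen_of_geomReduced f x hred (fun z hz hzmax => ?_)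
      (isGeomReducedAt_of_formallySmooth _ _ hs)
    have hzx : f.fiberι (f x) z ⤳ x := by
      have := (specializes_iff_mem_closure.2 hz).map (f.fiberι (f x)).continuous
      rwa [f.fiberι_asFiber] at this
    refine hopen _ hzx (apply_fiberι f _ z) fun w hw hwf => ?_
    rw [apply_fiberι f _ z] at hwf
    obtain ⟨b, rfl⟩ : w ∈ Set.range (f.fiberι (f x)) := by rw [f.range_fiberι]; exact hwf
    rw [hzmax b (((f.fiberι (f x)).isEmbedding.isInducing.specializes_iff.1 hw).mem_closure)]
  refine (SmoothLib.smooth_nhd_iff f x).2 ?_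
  have hh := SmoothLib.formallySmooth_stalkMap_of_fibre f (f x) (f.asFiber x) (by rw [f.fiberι_asFiber]; exact hflat) hs
  rwa [f.fiberι_asFiber] at hh

omit [IsLocallyNoetherian Y] in
theorem formallySmooth_fibre_of_smooth_nhd (x : X) (h : ∃ U : X.Opens, x ∈ U ∧ Smooth (U.ι ≫ f)) :
    ((f.fiberToSpecResidueField (f x)).stalkMap (f.asFiber x)).hom.FormallySmooth := by
  obtain ⟨U', hU', hsm⟩ := SmoothLib.smooth_nhd_baseChange f (Y.fromSpecResidueField (f x))
    (IsPullback.of_hasPullback _ _) (f.asFiber x) (by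
      rw [show pullback.fst f (Y.fromSpecResidueField (f x)) (f.asFiber x) = x from f.fiberι_asFiber x]; exact h)
  exact SmoothLib.formallySmooth_stalkMap_of_nhd (f.fiberToSpecResidueField (f x)) (hU := hsm) hU'

theorem isEquidimAt_of_smooth_nhd (x : X) (h : ∃ U : X.Opens, x ∈ U ∧ Smooth (U.ι ≫ f)) :
    EGA43.IsEquidimAt f x := by
  obtain ⟨U, hxU, hU⟩ := h
  obtain ⟨V, n, hxV, hV⟩ := Unram17Lib.exists_smoothOfRelativeDimension (U.ι ≫ f) ⟨x, hxU⟩
  haveI : IsLocallyNoetherian X := LocallyOfFiniteType.isLocallyNoetherian f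
  -- a neighbourhood of `x` meeting only the components through `x`
  obtain ⟨U₀, hU₀, hxU₀, -⟩ := exists_isAffineOpen_mem_and_subset (x := x) (U := ⊤) (Set.mem_univ _)
  haveI : IsAffine U₀.toScheme := hU₀
  haveI : IsNoetherian U₀.toScheme := { }
  let C : Set (Set U₀.toScheme) := {Z ∈ irreducibleComponents U₀.toScheme | (⟨x, hxU₀⟩ : U₀.toScheme) ∉ Z}
  have hC : IsClosed (⋃ Z ∈ C, Z) :=
    (NoetherianSpace.finite_irreducibleComponents.subset fun Z hZ => hZ.1).isClosed_biUnion
      fun Z hZ => isClosed_of_mem_irreducibleComponents Z hZ.1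
  let O : X.Opens := U.ι ''ᵁ V ⊓ U₀.ι ''ᵁ ⟨(⋃ Z ∈ C, Z)ᶜ, hC.isOpen_compl⟩
  have hxO : x ∈ O := ⟨⟨⟨x, hxU⟩, hxV, rfl⟩, ⟨⟨x, hxU₀⟩, fun hm => by
    obtain ⟨Z, hZ, hxZ⟩ := Set.mem_iUnion₂.1 hm
    exact hZ.2 hxZ, rfl⟩⟩
  let i := V.ι ≫ U.ι
  refine (isEquidimAt_iff f x).2 ⟨n, O, hxO, fun ξ hξO hξ => ?_, fun x' hx' hmax => ?_⟩
  · obtain ⟨⟨v, hvV, hv⟩, ⟨c, hcC, hc⟩⟩ := hξO
    refine ⟨?_, ?_⟩
    · intro η hη
      haveI : Flat (i ≫ f) := by
        rw [Category.assoc]; infer_instance
      obtain ⟨w, hw, hwη⟩ := Flat.generalizingMap (i ≫ f) (show η ⤳ (i ≫ f) ⟨v, hvV⟩ by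
        rw [Scheme.Hom.comp_apply, show i ⟨v, hvV⟩ = ξ from hv]; exact hη)
      have : i w = ξ := hξ _ (by rw [← show i ⟨v, hvV⟩ = ξ from hv]; exact hw.map i.continuous)
      rw [← hwη, Scheme.Hom.comp_apply, this]
    · refine Specializes.map ?_ f.continuous
      have hcm : IsMaximalPt (X := U₀.toScheme) c := (isMaximalPt_coe_iff c).2 (by rw [show c.1 = ξ from hc]; exact hξ)
      have hcx : c ⤳ (⟨x, hxU₀⟩ : U₀.toScheme) := by
        refine specializes_iff_mem_closure.2 ?_
        by_contra hx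
        exact hcC (Set.mem_biUnion (x := closure {c})
          ⟨DimLib.closure_mem_components fun z hz => (hcm z hz).symm, hx⟩ (subset_closure rfl))
      rw [← show U₀.ι c = ξ from hc]
      exact hcx.map U₀.ι.continuous
  · obtain ⟨⟨v, hvV, hv⟩, -⟩ := hx'
    haveI : SmoothOfRelativeDimension n (i ≫ f) := by rw [Category.assoc]; exact hV
    rw [← show i ⟨v, hvV⟩ = x' from hv, ← trdegHom_residueFieldMap_comp]
    have h1 := fibreDimAt_eq_of_maximal (i ≫ f) ⟨v, hvV⟩ fun w hw hwf => by
      refine i.isEmbedding.injective ((hmax (i w) ?_ ?_).trans hv.symm)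
      · rw [← show i ⟨v, hvV⟩ = x' from hv]; exact hw.map i.continuous
      · rw [← Scheme.Hom.comp_apply, hwf, Scheme.Hom.comp_apply, show i ⟨v, hvV⟩ = x' from hv]
    rw [Unram17Lib.fibreDimAt_of_smoothOfRelativeDimension (i ≫ f) n] at h1
    exact_mod_cast h1.symm

omit [IsLocallyNoetherian Y] in
theorem isUnivOpenAt_of_smooth_nhd {U : X.Opens} [Smooth (U.ι ≫ f)] (a : X) (ha : a ∈ U) :
    EGA43.IsUnivOpenAt f a := by
  refine isUnivOpenAt_of_comp U.ι f ⟨a, ha⟩ ?_
  intro Y' g x' _ O hO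
  exact ((pullback.snd (U.ι ≫ f) g).isOpenMap).image_mem_nhds hO

end Groth.Agent.EGA43.SmoothEquidim
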